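import Groth.Agent.MultTori.K605.Defs
import Mathlib.FieldTheory.SeparablyGenerated
import Mathlib.RingTheory.EssentialFiniteness
import Mathlib.FieldTheory.Perfect

/-!
# Finitely generated fields are finite separable over a field of rational functions

`K163.FgField.exists_isFG`: if `L` is a field which is essentially of finite type over `ℤ` then
`IsFG n L` for some `n`.
-/

set_option autoImplicit false
universe u

namespace K163.FgField

open Groth.Agent.MultTori.K605.Defs IntermediateField

variable (L : Type u) [Field L]

/-- the prime ring of `L` -/
abbrev PR : Subring L := (Int.castRingHom L).range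

lemma surj : Function.Surjective (Int.castRingHom (PR L)) := by
  rintro ⟨x, n, rfl⟩
  refine ⟨n, Subtype.ext ?_⟩
  simp

noncomputable instance : Algebra (FractionRing (PR L)) L :=
  FractionRing.liftAlgebra (PR L) L

instance : PerfectField (FractionRing (PR L)) := by
  obtain h | ⟨p, hp, hpk⟩ := CharP.exists' (FractionRing (PR L))
  · infer_instance
  · have h1 : Finite (PR L) := by
      have h3 : CharP (PR L) p := by
        refine ⟨fun x => ?_⟩
        rw [← CharP.cast_eq_zero_iff (FractionRing (PR L)) p x]
        constructor
        · intro h
          have := congrArg (algebraMap (PR L) (FractionRing (PR L))) h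
          simpa using this
        · intro h
          apply IsFractionRing.injective (PR L) (FractionRing (PR L))
          simpa using h
      have h2 : Function.Surjective (ZMod.castHom (dvd_refl p) (PR L)) := by
        intro x
        obtain ⟨n, rfl⟩ := surj L x
        exact ⟨(n : ZMod p), by simp⟩
      have : NeZero p := ⟨hp.out.ne_zero⟩
      exact Finite.of_surjective _ h2
    have h4 : Finite (FractionRing (PR L)) := by
      have h5 : Function.Surjective (fun x : PR L × nonZeroDivisors (PR L) => IsLocalization.mk' (FractionRing (PR L)) x.1 x.2) := by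
        intro z
        obtain ⟨x, y, rfl⟩ := IsLocalization.exists_mk'_eq (nonZeroDivisors (PR L)) z
        exact ⟨(x, y), rfl⟩
      exact Finite.of_surjective _ h5
    infer_instance


/-- Algebraic and essentially of finite type extensions of fields are finite. -/
theorem finite_of_ess (F : Type*) (E : Type*) [Field F] [Field E] [Algebra F E] [Algebra.EssFiniteType F E]
    [Algebra.IsAlgebraic F E] : Module.Finite F E := by
  obtain ⟨s, hs⟩ := IntermediateField.fg_top F E
  have h : FiniteDimensional F (IntermediateField.adjoin F (s : Set E)) :=
    IntermediateField.finiteDimensional_adjoin fun x _ => (Algebra.IsAlgebraic.isAlgebraic x).isIntegral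
  rw [hs] at h
  exact Module.Finite.equiv (IntermediateField.topEquiv (F := F) (E := E)).toLinearEquiv

theorem of_int_comp (F : Type*) (E : Type*) [CommRing F] [CommRing E] [Algebra F E]
    [Algebra.EssFiniteType ℤ E] : Algebra.EssFiniteType F E :=
  Algebra.EssFiniteType.of_comp ℤ F E

/-- A field which is essentially of finite type over `ℤ` is finite separable over the field of
rational functions in some number of variables over its prime field. -/
theorem exists_isFG [Algebra.EssFiniteType ℤ L] : ∃ n, IsFG n L := by
  let P := PR L
  let k := FractionRing P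
  have h1 : Algebra.EssFiniteType k L := Algebra.EssFiniteType.of_comp ℤ k L
  obtain ⟨s, hs, hsep⟩ := exists_isTranscendenceBasis_and_isSeparable_of_perfectField k L
  let e : Fin s.card ≃ s := s.equivFin.symm
  have hai : AlgebraicIndependent P (fun i : Fin s.card => ((e i : s) : L)) :=
    (hs.1.restrictScalars (R := P) (FaithfulSMul.algebraMap_injective P k)).comp _ e.injective
  let φ : MvPolynomial (Fin s.card) P →+* L :=
    (MvPolynomial.aeval (fun i : Fin s.card => ((e i : s) : L))).toRingHom
  have hφ : Function.Injective φ := hai
  let j : FractionRing (MvPolynomial (Fin s.card) P) →+* L := IsFractionRing.lift hφ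
  let : Algebra (FractionRing (MvPolynomial (Fin s.card) P)) L := j.toAlgebra
  have hj : ∀ x, algebraMap (FractionRing (MvPolynomial (Fin s.card) P)) L x = j x := fun _ => rfl
  have hjφ : ∀ x, j (algebraMap _ _ x) = φ x := fun x => IsFractionRing.lift_algebraMap hφ x
  let F := IntermediateField.adjoin k (s : Set L)
  have hle : F.toSubfield ≤ j.fieldRange := by
    change (IntermediateField.adjoin k (s : Set L)).toSubfield ≤ _
    rw [IntermediateField.adjoin_toSubfield, Subfield.closure_le]
    rintro x (⟨y, rfl⟩ | hx)
    · obtain ⟨a, b, hb, rfl⟩ := IsFractionRing.div_surjective (A := P) y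
      rw [map_div₀]
      refine div_mem ?_ ?_
      · refine ⟨algebraMap (MvPolynomial (Fin s.card) P) _ (MvPolynomial.C a), ?_⟩
        rw [hjφ]
        change MvPolynomial.aeval _ (MvPolynomial.C a) = _
        rw [MvPolynomial.aeval_C]
        exact IsScalarTower.algebraMap_apply P k L a
      · refine ⟨algebraMap (MvPolynomial (Fin s.card) P) _ (MvPolynomial.C b), ?_⟩
        rw [hjφ]
        change MvPolynomial.aeval _ (MvPolynomial.C b) = _
        rw [MvPolynomial.aeval_C]
        exact IsScalarTower.algebraMap_apply P k L b
    · refine ⟨algebraMap (MvPolynomial (Fin s.card) P) _ (MvPolynomial.X (e.symm ⟨x, hx⟩)), ?_⟩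
      rw [hjφ]
      change MvPolynomial.aeval _ (MvPolynomial.X _) = _
      rw [MvPolynomial.aeval_X]
      simp
  let ψ : F →+* FractionRing (MvPolynomial (Fin s.card) P) :=
    (j.rangeRestrictFieldEquiv.symm : j.fieldRange →+* _).comp (Subfield.inclusion hle)
  have hψ : ∀ x : F, j (ψ x) = x := by
    intro x
    have := congrArg Subtype.val (j.rangeRestrictFieldEquiv.apply_symm_apply (Subfield.inclusion hle x))
    exact this
  have hsep' : Algebra.IsSeparable (FractionRing (MvPolynomial (Fin s.card) P)) L := by
    refine ⟨fun x => ?_⟩
    have h2 : (minpoly F x).Separable := Algebra.IsSeparable.isSeparable F x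
    refine Polynomial.Separable.of_dvd (h2.map (f := ψ)) (minpoly.dvd _ _ ?_)
    rw [Polynomial.aeval_def, Polynomial.eval₂_map]
    have h3 : (algebraMap (FractionRing (MvPolynomial (Fin s.card) P)) L).comp ψ = algebraMap F L := by
      ext x
      exact hψ x
    rw [h3, ← Polynomial.aeval_def, minpoly.aeval]
  have h4 : Algebra.EssFiniteType (FractionRing (MvPolynomial (Fin s.card) P)) L :=
    of_int_comp _ L
  exact ⟨s.card, P, inferInstance, inferInstance, inferInstance, surj L, finite_of_ess _ _, hsep'⟩

end K163.FgField
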