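import Mathlib.AlgebraicGeometry.Group.Smooth
import Mathlib.AlgebraicGeometry.Group.Abelian
import Mathlib.AlgebraicGeometry.Morphisms.Separated
import Mathlib.AlgebraicGeometry.Morphisms.Proper
import Mathlib.AlgebraicGeometry.Morphisms.FiniteType
import Mathlib.AlgebraicGeometry.Geometrically.Integral
import Mathlib.CategoryTheory.Monoidal.Cartesian.Over
import Mathlib.CategoryTheory.Monoidal.Cartesian.Grp
import Mathlib.CategoryTheory.Monoidal.Cartesian.CommGrp_
import Mathlib.RingTheory.RegularLocalRing.Defs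
import Mathlib.RingTheory.FiniteType
import Mathlib.RingTheory.EssentialFiniteness
import Mathlib.RingTheory.MvPolynomial.Homogeneous
import Mathlib.GroupTheory.Finiteness
import Mathlib.GroupTheory.Index
import Mathlib.FieldTheory.Separable
import Mathlib.Analysis.SpecialFunctions.Log.Basic

/-!
# Interface for the finiteness theorems over finitely generated fields (S18688)

`IsFG n L`: `L` is a finitely generated field, finite separable over the field of fractions of
`D[t_1, .., t_n]`, `D` a quotient domain of `ℤ` (`D = ℤ` or `D = ℤ/p`).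
`Fac L`: `L` is the field of fractions of a finite type `ℤ`-algebra which is a UFD with finitely
generated units.  `U n`, `MW n`, `WMW n`: the three statements of the induction.
`Heights K`: what we need to know of heights.  `Coords A m`: what we need to know of an abelian
variety.
-/

set_option autoImplicit false
universe u
open CategoryTheory MonoidalCategory CartesianMonoidalCategory MonObj GrpObj AlgebraicGeometry

namespace K163.FG

/-- The field of rational functions in `n` variables over the domain `D`. -/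
abbrev Rat (n : ℕ) (D : Type u) [CommRing D] [IsDomain D] : Type u :=
  FractionRing (MvPolynomial (Fin n) D)

/-- `L` is a finitely generated field of transcendence degree `n` over its prime field. -/
def IsFG (n : ℕ) (L : Type u) [Field L] : Prop :=
  ∃ (D : Type u) (_ : CommRing D) (_ : IsDomain D) (_ : Algebra (Rat n D) L),
    Function.Surjective (Int.castRingHom D) ∧ FiniteDimensional (Rat n D) L ∧
      Algebra.IsSeparable (Rat n D) L

/-- `L` is the field of fractions of a finite type `ℤ`-algebra which is a UFD with finitely generated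
units. -/
def Fac (L : Type u) [Field L] : Prop :=
  ∃ (A : Type u) (_ : CommRing A) (_ : IsDomain A) (_ : Algebra A L),
    IsFractionRing A L ∧ Algebra.FiniteType ℤ A ∧ UniqueFactorizationMonoid A ∧ Group.FG Aˣ

/-- Every finitely generated field of transcendence degree `n` has a factorial model. -/
def U (n : ℕ) : Prop := ∀ (L : Type u) [Field L], IsFG n L → Fac L

/-- The Mordell–Weil theorem in transcendence degree `n`. -/
def MW (n : ℕ) : Prop := ∀ (L : Type u) [Field L], IsFG n L →
  ∀ (A : Over (Spec (CommRingCat.of L))) [GrpObj A] [IsCommMonObj A] [IsProper A.hom]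
    [GeometricallyIntegral A.hom], Group.FG (𝟙_ (Over (Spec (CommRingCat.of L))) ⟶ A)

/-- The weak Mordell–Weil theorem in transcendence degree `n`. -/
def WMW (n : ℕ) : Prop := ∀ (L : Type u) [Field L], IsFG n L →
  ∀ (A : Over (Spec (CommRingCat.of L))) [GrpObj A] [IsCommMonObj A] [IsProper A.hom]
    [GeometricallyIntegral A.hom] (m : ℕ), (m : L) ≠ 0 →
    (powMonoidHom (α := (𝟙_ (Over (Spec (CommRingCat.of L))) ⟶ A)) m).range.FiniteIndex

/-! ### Heights -/

/-- The tensor product of two vectors. -/
def tens {K : Type u} [Field K] {I J : Type} (v : I → K) (w : J → K) : I × J → K :=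
  fun p => v p.1 * w p.2

/-- The `k`-th tensor power of a vector. -/
def tpow {K : Type u} [Field K] {I : Type} (k : ℕ) (v : I → K) : (Fin k → I) → K :=
  fun f => ∏ i, v (f i)

/-- A family of homogeneous integral relations: for every `j : J` a degree `d j` and homogeneous
polynomials `a j k` of degree `k` (only `1 ≤ k ≤ d j` matters). -/
structure Rel (K : Type u) [Field K] (I J : Type) where
  d : J → ℕ
  d_pos : ∀ j, 0 < d j
  a : J → ℕ → MvPolynomial I K
  homog : ∀ j k, (a j k).IsHomogeneous k

/-- The vectors `v`, `w` satisfy `w j ^ d + a_1(v) w j ^ (d-1) + .. + a_d(v) = 0` for all `j`. -/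
def Rel.Sat {K : Type u} [Field K] {I J : Type} (R : Rel K I J) (v : I → K) (w : J → K) : Prop :=
  ∀ j, w j ^ R.d j + ∑ k ∈ Finset.Icc 1 (R.d j), MvPolynomial.eval v (R.a j k) * w j ^ (R.d j - k) = 0

/-- Two families of nonzero vectors (up to a common scaling of both at each point) which are integral
over each other. -/
def Comparable {K : Type u} [Field K] {X : Type u} {I J : Type} (v : X → I → K) (w : X → J → K) :
    Prop :=
  ∃ (R : Rel K I J) (R' : Rel K J I), ∀ x, ∃ c : K, c ≠ 0 ∧ R.Sat (v x) (c • w x) ∧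
    R'.Sat (c • w x) (v x)

/-- What we need to know of heights over the field `K`: `h1` is the degree, `h2` the logarithmic size,
for nonzero vectors up to scalars. -/
structure Heights (K : Type u) [Field K] where
  h1 : ∀ {I : Type} [Fintype I], (I → K) → ℝ
  h2 : ∀ {I : Type} [Fintype I], (I → K) → ℝ
  nonneg1 : ∀ {I : Type} [Fintype I] (v : I → K), 0 ≤ h1 v
  nonneg2 : ∀ {I : Type} [Fintype I] (v : I → K), 0 ≤ h2 v
  smul1 : ∀ {I : Type} [Fintype I] (c : K) (v : I → K), c ≠ 0 → v ≠ 0 → h1 (c • v) = h1 v
  smul2 : ∀ {I : Type} [Fintype I] (c : K) (v : I → K), c ≠ 0 → v ≠ 0 → h2 (c • v) = h2 v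
  northcott : ∀ {I : Type} [Fintype I] (a b : ℝ), ∃ S : Set (I → K), S.Finite ∧
    ∀ v : I → K, v ≠ 0 → h1 v ≤ a → h2 v ≤ b → ∃ s ∈ S, ∃ c : K, c ≠ 0 ∧ v = c • s
  tens1 : ∀ {I J : Type} [Fintype I] [Fintype J] (v : I → K) (w : J → K), v ≠ 0 → w ≠ 0 →
    h1 (tens v w) = h1 v + h1 w
  /-- a constant which may depend on the index types -/
  tens2 : ∀ (I J : Type) [Fintype I] [Fintype J], ∃ E : ℝ, ∀ (v : I → K) (w : J → K), v ≠ 0 → w ≠ 0 →
    h2 (tens v w) ≤ h2 v + h2 w + E * (1 + h1 v + h1 w) ∧
    h2 v + h2 w ≤ h2 (tens v w) + E * (1 + h1 v + h1 w)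
  integral : ∀ {I J : Type} [Fintype I] [Fintype J] (R : Rel K I J), ∃ C E : ℝ,
    ∀ (v : I → K) (w : J → K), v ≠ 0 → w ≠ 0 → R.Sat v w →
      h1 w ≤ h1 v + C ∧ h2 w ≤ h2 v + E * (1 + h1 v)

/-! ### Abelian varieties -/

/-- Coordinates on the group `G` of points of an abelian variety: `ρ` = a projective embedding by a
symmetric module `L`; `[m]^*L = L^(m^2)` and `t_y^*L ⊗ t_{-y}^*L = L^2`. -/
def HasCoords (K : Type u) [Field K] (G : Type u) [CommGroup G] (m : ℕ) : Prop :=
  ∃ (I : Type) (_ : Fintype I) (ρ : G → I → K), (∀ x, ρ x ≠ 0) ∧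
    (∀ x y, (∃ c : K, c ≠ 0 ∧ ρ x = c • ρ y) → x = y) ∧
    Comparable (fun x => tpow (m ^ 2) (ρ x)) (fun x => ρ (x ^ m)) ∧
    ∀ y : G, Comparable (fun x => tpow 2 (ρ x)) (fun x => tens (ρ (x * y)) (ρ (x * y⁻¹)))

end K163.FG
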