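import Groth.Agent.MultTori.K163.WeilAV
import Groth.Agent.MultTori.K163.FgField
import Groth.Agent.MultTori.K605.FG
import Groth.Agent.Sga3B.RadOpen.KPts
import Groth.Agent.Sga3.H780.Pointed
import Mathlib.AlgebraicGeometry.Group.Abelian
import Mathlib.FieldTheory.Normal.Closure
import Mathlib.FieldTheory.Galois.Basic
import Mathlib.FieldTheory.IsSepClosed
import Mathlib.FieldTheory.SeparableClosure

/-!
# Mordell-Weil for finite separable extensions

* `fg_of_sep`: if Mordell-Weil holds for all abelian varieties over `K` then it holds for all abelian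
  varieties over a finite separable extension of `K`.
* `mw_of_rat`: `MW n` follows from Mordell-Weil over the rational function fields.
-/

set_option autoImplicit false
universe u

open CategoryTheory CategoryTheory.Limits AlgebraicGeometry MonoidalCategory
  CartesianMonoidalCategory MonObj

namespace K163.MWGal

open K491.GalWeil K509.Basic

/-- Mordell-Weil over the field `K`. -/
def MWF (K : Type u) [Field K] : Prop :=
  ∀ (A : Over (Spec (CommRingCat.of K))) [GrpObj A] [IsCommMonObj A] [IsProper A.hom]
    [GeometricallyIntegral A.hom], Group.FG (𝟙_ (Over (Spec (CommRingCat.of K))) ⟶ A)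

/-- Rational points inject into the rational points of a base change. -/
theorem exists_injective (L M : Type u) [Field L] [Field M] [Algebra L M]
    (A : Over (Spec (CommRingCat.of L))) [GrpObj A] :
    ∃ f : (𝟙_ (Over (Spec (CommRingCat.of L))) ⟶ A) →*
      (𝟙_ (Over (Spec (CommRingCat.of M))) ⟶ Red.bc (ext L M) A), Function.Injective f := by
  let g : (𝟙_ (Over (Spec (CommRingCat.of L))) ⟶ A) →* (Over.mk (ext L M) ⟶ A) :=
    { toFun := fun x => toUnit _ ≫ x
      map_one' := MonObj.comp_one _
      map_mul' := fun x y => MonObj.comp_mul _ _ _ }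
  have hg : Function.Injective g := by
    intro x y h
    have h1 : (toUnit (Over.mk (ext L M)) ≫ x).left = (toUnit (Over.mk (ext L M)) ≫ y).left :=
      congrArg CommaMorphism.left h
    have h2 : (toUnit (Over.mk (ext L M))).left = ext L M := by
      have := Over.w (toUnit (Over.mk (ext L M)))
      have h3 : (𝟙_ (Over (Spec (CommRingCat.of L)))).hom = 𝟙 _ := rfl
      rw [h3] at this
      exact (Category.comp_id _).symm.trans this
    have h4 : Epi (ext L M) := by
      have : Flat (ext L M) := inferInstance
      have : Surjective (ext L M) := inferInstance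
      infer_instance
    apply Over.OverMorphism.ext
    have h5 : ext L M ≫ x.left = ext L M ≫ y.left := by
      rw [Over.comp_left, Over.comp_left, h2] at h1
      exact h1
    exact (cancel_epi (ext L M)).1 h5
  refine ⟨(Groth.Agent.Sga3B.RadOpen.ptMulEquiv (ext L M) A).symm.toMonoidHom.comp g, ?_⟩
  exact (Groth.Agent.Sga3B.RadOpen.ptMulEquiv (ext L M) A).symm.injective.comp hg

/-- Mordell-Weil for a finite Galois extension. -/
theorem mwf_galois (K M : Type u) [Field K] [Field M] [Algebra K M] [FiniteDimensional K M]
    [IsGalois K M] (h : MWF K) : MWF M := by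
  intro A _ _ _ _
  obtain ⟨B, _, _, hp, hg, ⟨e⟩⟩ := WeilAV.exists_weil K M A
  exact Groth.Agent.MultTori.K605.FG.of_injective e.symm.toMonoidHom e.symm.injective (h B)

/-- Mordell-Weil descends. -/
theorem mwf_of_ext (L M : Type u) [Field L] [Field M] [Algebra L M] (h : MWF M) : MWF L := by
  intro A _ _ _ _
  obtain ⟨f, hf⟩ := exists_injective L M A
  have hc : IsCommMonObj (Red.bc (ext L M) A) := inferInstance
  exact Groth.Agent.MultTori.K605.FG.of_injective f hf (h (Red.bc (ext L M) A))

/-- **Mordell-Weil for finite separable extensions.** -/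
theorem mwf_sep (K L : Type u) [Field K] [Field L] [Algebra K L] [FiniteDimensional K L]
    [Algebra.IsSeparable K L] (h : MWF K) : MWF L := by
  have h1 : Algebra.IsSeparable K (SeparableClosure L) := Algebra.IsSeparable.trans K L _
  have h2 : IsSepClosure K (SeparableClosure L) := ⟨inferInstance, h1⟩
  have h3 : IsGalois K (SeparableClosure L) := inferInstance
  let M := IntermediateField.normalClosure K L (SeparableClosure L)
  have : IsGalois K M := IsGalois.normalClosure K L (SeparableClosure L)
  have : FiniteDimensional K M := inferInstance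
  exact mwf_of_ext L M (mwf_galois K M h)

theorem isCommMonObj (K : Type u) [Field K] (A : Over (Spec (CommRingCat.of K))) [GrpObj A]
    [IsProper A.hom] [GeometricallyIntegral A.hom] : IsCommMonObj A :=
  isCommMonObj_of_isProper_of_geometricallyIntegral A

open Groth.Agent.MultTori.K605.Defs

/-- `MW n` from the rational function fields. -/
theorem mw_of_rat (n : ℕ)
    (h : ∀ (D : Type u) [CommRing D] [IsDomain D], Function.Surjective (Int.castRingHom D) →
      MWF (FractionRing (MvPolynomial (Fin n) D))) : MW.{u} n := by
  intro L _ hL A _ _ _ _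
  obtain ⟨D, _, _, _, hD, hf, hs⟩ := hL
  have h1 : GeometricallyIntegral A.hom := by
    have h1 : Subsingleton ↥(Spec (CommRingCat.of L)) := inferInstanceAs (Subsingleton (PrimeSpectrum L))
    have h2 : ConnectedSpace A.left := GeometricallyConnected.connectedSpace_of_subsingleton A.hom
    exact Groth.Agent.Sga3.H780.Pointed.geometricallyIntegral A
  have h2 : IsCommMonObj A := isCommMonObj L A
  exact mwf_sep _ L (h D hD) A

/-- `MWF L` for finitely generated fields `L` from the rational function fields. -/
theorem mwf_of_ess
    (h : ∀ (n : ℕ) (D : Type u) [CommRing D] [IsDomain D], Function.Surjective (Int.castRingHom D) →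
      MWF (FractionRing (MvPolynomial (Fin n) D)))
    (L : Type u) [Field L] [Algebra.EssFiniteType ℤ L] : MWF L := by
  obtain ⟨n, D, _, _, _, hD, hf, hs⟩ := FgField.exists_isFG L
  exact mwf_sep _ L (h n D hD)

end K163.MWGal
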