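import Groth.Agent.AbVar.K509.WeilLft
import Groth.Agent.AbVar.K509.GeomDesc
import Groth.Agent.AbVar.K509.Basic
import Groth.Agent.AbVar.K520.Prod
import Groth.Agent.Neron.K491.GalWeil
import Groth.Agent.Etbase.FpqcDescent

/-!
# Weil restriction of an abelian variety along a finite Galois extension of fields

`K163.WeilAV.exists_weil`: an abelian variety `E` over `L`, `L / K` finite Galois, has a Weil restriction `B`,
an abelian variety over `K` with `B(K) ≃* E(L)`.
-/

set_option autoImplicit false
universe u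

open CategoryTheory CategoryTheory.Limits AlgebraicGeometry MonoidalCategory
  CartesianMonoidalCategory MonObj

namespace K163.WeilAV

open K491.GalWeil K509.Basic

variable (K L : Type u) [Field K] [Field L] [Algebra K L] [FiniteDimensional K L] [IsGalois K L]

/-- The base change to `L` of a Weil restriction along `L / K` is a product of conjugates. -/
theorem exists_iso {E : Over (Spec (CommRingCat.of L))} [GrpObj E] [IsCommMonObj E] [IsProper E.hom]
    [GeometricallyIntegral E.hom] {R : Over (Spec (CommRingCat.of K))}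
    {q : Red.bc (ext K L) R ⟶ E} (h : WeilRes.IsWeilRes (ext K L) E R q) :
    ∃ P : Over (Spec (CommRingCat.of L)), IsProper P.hom ∧ GeometricallyIntegral P.hom ∧
      Nonempty (Red.bc (ext K L) R ≅ P) := by
  classical
  let n := Fintype.card (L ≃ₐ[K] L)
  let e : Fin n ≃ (L ≃ₐ[K] L) := (Fintype.equivFin _).symm
  have hcomm : ∀ i : Fin n, IsCommMonObj (Red.bc (conj (e i)) E) := fun i => inferInstance
  obtain ⟨P, _, _, hp, hg, π, -, hπ1, hπ2⟩ := K520.Prod.exists_prod n
    (fun i : Fin n => Red.bc (conj (e i)) E)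
  refine ⟨P, hp, hg, ?_⟩
  obtain ⟨f, hf⟩ := hπ2 (Red.bc (ext K L) R) (fun i => comp q (e i))
  obtain ⟨g, hgσ⟩ := (bijective_comp K L h P).2 (fun σ => (π (e.symm σ) : P ⟶ _) ≫ eqToHom (by simp))
  have hg' : ∀ σ, g ≫ comp q σ = (π (e.symm σ) : P ⟶ _) ≫ eqToHom (by simp) := congrFun hgσ
  have hgi : ∀ i, g ≫ comp q (e i) = π i := by
    intro i
    rw [hg']
    have key : ∀ (j : Fin n) (hj : j = i) (hh : Red.bc (conj (e j)) E = Red.bc (conj (e i)) E),
        (π j : P ⟶ _) ≫ eqToHom hh = π i := by
      rintro j rfl hh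
      simp
    exact key _ (by simp) _
  refine ⟨⟨f, g, ?_, ?_⟩⟩
  · apply (bijective_comp K L h (Red.bc (ext K L) R)).1
    funext σ
    change (f ≫ g) ≫ comp q σ = 𝟙 _ ≫ comp q σ
    obtain ⟨i, rfl⟩ := e.surjective σ
    rw [Category.assoc, hgi, hf, Category.id_comp]
  · apply hπ1
    intro i
    rw [Category.assoc, hf, hgi, Category.id_comp]

/-- The terminal object pulls back to the terminal object. -/
noncomputable def bcUnit {S S' : Scheme.{u}} (f : S' ⟶ S) :
    𝟙_ (Over S') ≅ Red.bc f (𝟙_ (Over S)) :=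
  have : IsIso (𝟙_ (Over S)).hom := inferInstanceAs (IsIso (𝟙 S))
  (Over.isoMk (asIso (pullback.snd (𝟙_ (Over S)).hom f)) (by
    change pullback.snd (𝟙_ (Over S)).hom f ≫ 𝟙 _ = pullback.snd (𝟙_ (Over S)).hom f
    rw [Category.comp_id])).symm

/-- **Weil restriction of abelian varieties along finite Galois extensions.** -/
theorem exists_weil (E : Over (Spec (CommRingCat.of L))) [GrpObj E] [IsCommMonObj E] [IsProper E.hom]
    [GeometricallyIntegral E.hom] :
    ∃ (B : Over (Spec (CommRingCat.of K))) (_ : GrpObj B) (_ : IsCommMonObj B), IsProper B.hom ∧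
      GeometricallyIntegral B.hom ∧
      Nonempty ((𝟙_ (Over (Spec (CommRingCat.of K))) ⟶ B) ≃* (𝟙_ (Over (Spec (CommRingCat.of L))) ⟶ E)) := by
  obtain ⟨R, _, q, hc, hlft, hq, h⟩ := Groth.Agent.AbVar.K509.WeilLft.exists_weil_grp K L E
  obtain ⟨P, hP, hPg, ⟨e⟩⟩ := exists_iso K L h
  have h1 : pullback.snd R.hom (ext K L) = e.hom.left ≫ P.hom := (Over.w e.hom).symm
  have hi1 : IsIso e.hom.left := (Over.forget _).map_isIso e.hom
  have hi2 : IsIso e.inv.left := (Over.forget _).map_isIso e.inv
  have h2 : IsProper (pullback.snd R.hom (ext K L)) := by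
    rw [h1]
    exact (MorphismProperty.cancel_left_of_respectsIso @IsProper _ _).2 hP
  have h3 : GeometricallyIntegral (pullback.snd R.hom (ext K L)) := by
    rw [h1]
    have h0 : e.inv.left ≫ e.hom.left ≫ P.hom = P.hom := by
      rw [← Category.assoc, ← Over.comp_left, e.inv_hom_id, Over.id_left, Category.id_comp]
    have h0' : GeometricallyIntegral (e.inv.left ≫ e.hom.left ≫ P.hom) := by
      rw [h0]
      exact hPg
    exact K520.Prod.geometricallyIntegral_of_flat_surjective e.inv.left _
  have hs : Surjective (ext K L) := inferInstance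
  have hfl : Flat (ext K L) := inferInstance
  have h4 : IsProper R.hom := by
    have := Groth.Agent.Etbase.FpqcDescent.descendsAlong_isProper.{u}
    exact MorphismProperty.of_isPullback_of_descendsAlong (P := @IsProper)
      (Q := (@Surjective ⊓ @Flat ⊓ @QuasiCompact : MorphismProperty Scheme.{u}))
      (IsPullback.of_hasPullback R.hom (ext K L)).flip ⟨⟨hs, hfl⟩, inferInstance⟩ h2
  have h5 : GeometricallyIntegral R.hom := Groth.Agent.AbVar.K509.GeomDesc.geometricallyIntegral_of_bc R.hom (ext K L)
  refine ⟨R, inferInstance, hc, h4, h5, ⟨?_⟩⟩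
  refine (h.restrMulEquiv (ext K L) (𝟙_ _)).trans
    { toFun := fun x => (bcUnit (ext K L)).hom ≫ x
      invFun := fun y => (bcUnit (ext K L)).inv ≫ y
      left_inv := fun x => by simp
      right_inv := fun y => by simp
      map_mul' := fun x y => MonObj.comp_mul _ _ _ }

end K163.WeilAV
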